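import Groth.Agent.Flat2B.LST
import Groth.Agent.Flat2B.ElemDev

/-!
# Étale localization of smooth algebras with geometrically irreducible fibres

* `smoothRelDim_comp_etale`, `smoothRelDim_of_etale_base`: `SmoothRelDim` and étale maps.
* `exists_step`: let `R → D` be smooth of relative dimension `n` and `y` a prime of `D` over `p` with `κ(y)/κ(p)`
  purely transcendental.  Then there are étale neighbourhoods `(R', p')` of `(R, p)` and `(D', y')` of `(D, y)`, with
  `Spec D'` open in `Spec (R' ⊗ D)`, such that `R' → D'` has geometrically irreducible fibres.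
-/

set_option autoImplicit false
universe u

namespace K562.EtLoc

open TensorProduct FlatCA Groth.Agent.Flat2B

/-- Étale over smooth of relative dimension `n`. -/
theorem smoothRelDim_comp_etale (n : ℕ) (R D D' : Type u) [CommRing R] [CommRing D] [CommRing D']
    [Algebra R D] [Algebra D D'] [Algebra R D'] [IsScalarTower R D D'] (h : SmoothRelDim n R D)
    [Algebra.Etale D D'] : SmoothRelDim n R D' := by
  unfold SmoothRelDim at h ⊢
  have h1 : AlgebraicGeometry.Etale
      (AlgebraicGeometry.Spec.map (CommRingCat.ofHom (algebraMap D D'))) := by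
    rw [AlgebraicGeometry.HasRingHomProperty.Spec_iff (P := @AlgebraicGeometry.Etale)]
    rw [CommRingCat.hom_ofHom, RingHom.etale_algebraMap]
    infer_instance
  have h2 : AlgebraicGeometry.Spec.map (CommRingCat.ofHom (algebraMap R D')) =
      CategoryTheory.CategoryStruct.comp
        (AlgebraicGeometry.Spec.map (CommRingCat.ofHom (algebraMap D D')))
        (AlgebraicGeometry.Spec.map (CommRingCat.ofHom (algebraMap R D))) := by
    rw [← AlgebraicGeometry.Spec.map_comp, ← CommRingCat.ofHom_comp, ← IsScalarTower.algebraMap_eq]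
  rw [h2]
  have h3 := AlgebraicGeometry.smoothOfRelativeDimension_comp 0 n
    (AlgebraicGeometry.Spec.map (CommRingCat.ofHom (algebraMap D D')))
    (AlgebraicGeometry.Spec.map (CommRingCat.ofHom (algebraMap R D)))
  rwa [zero_add] at h3

/-- Cancellation of an étale base. -/
theorem smoothRelDim_of_etale_base (n : ℕ) (R R' D : Type u) [CommRing R] [CommRing R'] [CommRing D]
    [Algebra R R'] [Algebra R' D] [Algebra R D] [IsScalarTower R R' D] (h : SmoothRelDim n R D)
    [Algebra.Etale R R'] : SmoothRelDim n R' D := by
  let T := R' ⊗[R] D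
  let _ : Algebra D T := Algebra.TensorProduct.rightAlgebra
  have hpo : Algebra.IsPushout R D R' T := TensorProduct.isPushout'
  have h1 : SmoothRelDim n R' T := BCTools.smoothRelDim_of_isPushout R D R' T n h
  let φ : T →ₐ[R'] D := Algebra.TensorProduct.lift (Algebra.ofId R' D) (AlgHom.id R D) (fun _ _ => Commute.all _ _)
  let _ : Algebra T D := φ.toRingHom.toAlgebra
  have t1 : IsScalarTower R' T D := IsScalarTower.of_algebraMap_eq' φ.comp_algebraMap.symm
  have t2 : IsScalarTower D T D := IsScalarTower.of_algebraMap_eq fun d => by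
    change d = φ ((1 : R') ⊗ₜ[R] d)
    rw [Algebra.TensorProduct.lift_tmul, map_one, one_mul]
    rfl
  have h2 : Algebra.Etale D T := by
    have := Algebra.Etale.baseChange R R' D
    exact Algebra.Etale.of_equiv (Algebra.IsPushout.equiv R D R' T)
  have h3 : Algebra.Etale T D := Algebra.Etale.of_restrictScalars D T D
  exact smoothRelDim_comp_etale n R' T D h1

theorem smooth_of_smoothRelDim (n : ℕ) (R D : Type u) [CommRing R] [CommRing D] [Algebra R D]
    (h : SmoothRelDim n R D) : Algebra.Smooth R D := by
  have h1 : AlgebraicGeometry.Smooth (AlgebraicGeometry.Spec.map (CommRingCat.ofHom (algebraMap R D))) := by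
    have := h
    exact AlgebraicGeometry.SmoothOfRelativeDimension.smooth n _
  rw [AlgebraicGeometry.HasRingHomProperty.Spec_iff (P := @AlgebraicGeometry.Smooth)] at h1
  rwa [CommRingCat.hom_ofHom, RingHom.smooth_algebraMap] at h1

/-- **Étale localization with geometrically irreducible fibres.** -/
theorem exists_step {R D : Type u} [CommRing R] [CommRing D] [Algebra R D] (n : ℕ) (hsm : SmoothRelDim n R D)
    (p : Ideal R) [p.IsPrime] (y : Ideal D) [y.IsPrime] [y.LiesOver p] (hpt : PurelyTranscendental p y) :
    ∃ (R' : Type u) (_ : CommRing R') (_ : Algebra R R') (p' : Ideal R') (_ : p'.IsPrime)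
      (T : Type u) (_ : CommRing T) (_ : Algebra R T) (_ : Algebra R' T) (_ : Algebra D T)
      (_ : IsScalarTower R R' T) (_ : IsScalarTower R D T)
      (D' : Type u) (_ : CommRing D') (_ : Algebra T D') (_ : Algebra R' D') (_ : Algebra D D') (_ : Algebra R D')
      (_ : IsScalarTower R R' D') (_ : IsScalarTower R D D') (_ : IsScalarTower D T D') (_ : IsScalarTower R' T D')
      (y' : Ideal D') (_ : y'.IsPrime) (_ : y'.LiesOver p') (_ : y'.LiesOver y),
      IsEtaleNhd R R' p p' ∧ IsEtaleNhd D D' y y' ∧ Algebra.IsPushout R R' D T ∧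
      AlgebraicGeometry.IsOpenImmersion (AlgebraicGeometry.Spec.map (CommRingCat.ofHom (algebraMap T D'))) ∧
      PurelyTranscendental p' y' ∧ SmoothRelDim n R' D' ∧ GeomIrredFibres R' D' := by
  have := smooth_of_smoothRelDim n R D hsm
  obtain ⟨R', _, _, p', hp', y', hy', b, h1, h2, h3, hb, H⟩ := GIN.exists_geomIntegral p y hpt
  obtain ⟨h, hh, H⟩ := H b hb dvd_rfl
  let E := R' ⊗[R] D
  let : Algebra D E := Algebra.TensorProduct.rightAlgebra
  let R'' := Localization.Away h
  let c : E := algebraMap R' E h * b
  let D' := Localization.Away c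
  have hy'p : y'.LiesOver p' := h2
  have hy'y : y'.LiesOver y := ⟨h3.symm⟩
  have hc : c ∉ y' := fun hc => (hy'.mem_or_mem hc).elim
    (fun hc => hh (by rw [hy'p.over]; exact hc)) hb
  have hpo : Algebra.IsPushout R D R' E := TensorProduct.isPushout'
  have e1 : IsEtaleNhd D E y y' :=
    EtaleNhd.isEtaleNhd_pushout (R := R) (R' := R') (p := p) (p' := p') h1 ‹_› y' hy'y hy'p
  obtain ⟨hy, e2⟩ := NhdBasic.map_away c y' hc D'
  let y'' : Ideal D' := y'.map (algebraMap E D')
  have e3 : IsEtaleNhd D D' y y'' := NhdBasic.trans e1 e2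
  have hcu : IsUnit (algebraMap E D' c) := IsLocalization.Away.algebraMap_isUnit c
  have hu : IsUnit (algebraMap R' D' h) := by
    rw [IsScalarTower.algebraMap_apply R' E D']
    rw [map_mul] at hcu
    exact isUnit_of_mul_isUnit_left hcu
  let : Algebra R'' D' := (IsLocalization.Away.lift h (g := algebraMap R' D') hu).toAlgebra
  have : IsScalarTower R' R'' D' :=
    .of_algebraMap_eq' (IsLocalization.Away.lift_comp h hu).symm
  have : IsScalarTower R R'' D' := by
    refine .of_algebraMap_eq fun r => ?_
    rw [IsScalarTower.algebraMap_apply R R' R'', ← IsScalarTower.algebraMap_apply R' R'' D',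
      ← IsScalarTower.algebraMap_apply R R' D']
  have : IsScalarTower R D D' := by
    refine .of_algebraMap_eq fun r => ?_
    rw [IsScalarTower.algebraMap_apply R E D', IsScalarTower.algebraMap_apply D E D',
      ← IsScalarTower.algebraMap_apply R D E]
  let p'' : Ideal R'' := p'.map (algebraMap R' R'')
  obtain ⟨hp'', e4⟩ := NhdBasic.map_away h p' hh R''
  have e5 : IsEtaleNhd R R'' p p'' := NhdBasic.trans h1 e4
  have hyy' : y''.LiesOver y' := e2.2.1
  have hyy₁ : y''.LiesOver y := e3.2.1
  have hyp' : y''.LiesOver p' := Ideal.LiesOver.trans y'' y' p'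
  have hyp'' : y''.LiesOver p'' := ⟨by
    rw [← IsLocalization.map_under (Submonoid.powers h) R'' (y''.under R'')]
    change p'.map _ = _
    congr 1
    rw [hyp'.over, Ideal.under_under]⟩
  have hp''p : p''.LiesOver p := e5.2.1
  -- the pushout over `R''`
  let T := R'' ⊗[R'] E
  let : Algebra E T := Algebra.TensorProduct.rightAlgebra
  let : Algebra D T := ((algebraMap E T).comp (algebraMap D E)).toAlgebra
  have tDET : IsScalarTower D E T := IsScalarTower.of_algebraMap_eq' rfl
  have tRR''T : IsScalarTower R R'' T := inferInstance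
  have tRR'T : IsScalarTower R R' T := IsScalarTower.of_algebraMap_eq fun r => by
    exact (IsScalarTower.algebraMap_apply R R'' T r).trans
      ((congrArg (algebraMap R'' T) (IsScalarTower.algebraMap_apply R R' R'' r)).trans
        (IsScalarTower.algebraMap_apply R' R'' T (algebraMap R R' r)).symm)
  have tRET : IsScalarTower R E T := IsScalarTower.of_algebraMap_eq fun r => by
    exact (IsScalarTower.algebraMap_apply R R' T r).trans
      ((IsScalarTower.algebraMap_apply R' E T (algebraMap R R' r)).trans
        (congrArg (algebraMap E T) (IsScalarTower.algebraMap_apply R R' E r).symm))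
  have tRDT : IsScalarTower R D T := IsScalarTower.of_algebraMap_eq fun r => by
    exact (IsScalarTower.algebraMap_apply R E T r).trans
      ((congrArg (algebraMap E T) (IsScalarTower.algebraMap_apply R D E r)).trans
        (IsScalarTower.algebraMap_apply D E T (algebraMap R D r)).symm)
  have hpo1 : Algebra.IsPushout R' R'' E T := TensorProduct.isPushout
  have hpo0 : Algebra.IsPushout R R' D E := TensorProduct.isPushout
  have hpo2 : Algebra.IsPushout R R'' D T := (Algebra.IsPushout.comp_iff (R := R) (S := R') (R' := D) (S' := E)).2 hpo1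
  let φ : T →ₐ[R''] D' := Algebra.TensorProduct.lift (Algebra.ofId R'' D') (IsScalarTower.toAlgHom R' E D')
    (fun _ _ => Commute.all _ _)
  let : Algebra T D' := φ.toRingHom.toAlgebra
  have t1 : IsScalarTower R'' T D' := IsScalarTower.of_algebraMap_eq' φ.comp_algebraMap.symm
  have t3 : IsScalarTower E T D' := IsScalarTower.of_algebraMap_eq fun d => by
    change algebraMap E D' d = φ ((1 : R'') ⊗ₜ[R'] d)
    rw [Algebra.TensorProduct.lift_tmul, map_one, one_mul]
    rfl
  have t2 : IsScalarTower D T D' := IsScalarTower.of_algebraMap_eq fun d => by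
    rw [IsScalarTower.algebraMap_apply D E T, ← IsScalarTower.algebraMap_apply E T D',
      ← IsScalarTower.algebraMap_apply D E D']
  refine ⟨R'', inferInstance, inferInstance, p'', hp'', T, inferInstance, inferInstance, inferInstance, inferInstance,
    inferInstance, inferInstance, D', inferInstance, inferInstance, inferInstance, inferInstance, inferInstance,
    inferInstance, inferInstance, t2, t1, y'', hy, hyp'', hyy₁, e5, e3, hpo2, ?_, ?_, ?_, ?_⟩
  · have o1 : AlgebraicGeometry.IsOpenImmersion (AlgebraicGeometry.Spec.map (CommRingCat.ofHom (algebraMap R' R''))) :=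
      AlgebraicGeometry.IsOpenImmersion.of_isLocalization h
    have o2 : AlgebraicGeometry.IsOpenImmersion (AlgebraicGeometry.Spec.map (CommRingCat.ofHom (algebraMap E T))) :=
      CategoryTheory.MorphismProperty.of_isPullback (P := @AlgebraicGeometry.IsOpenImmersion)
        (BCTools.isPullback_Spec R' E R'' T).flip o1
    have o3 : AlgebraicGeometry.IsOpenImmersion (AlgebraicGeometry.Spec.map (CommRingCat.ofHom (algebraMap E D'))) :=
      AlgebraicGeometry.IsOpenImmersion.of_isLocalization c
    have h2 : AlgebraicGeometry.Spec.map (CommRingCat.ofHom (algebraMap E D')) =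
        CategoryTheory.CategoryStruct.comp
          (AlgebraicGeometry.Spec.map (CommRingCat.ofHom (algebraMap T D')))
          (AlgebraicGeometry.Spec.map (CommRingCat.ofHom (algebraMap E T))) := by
      rw [← AlgebraicGeometry.Spec.map_comp, ← CommRingCat.ofHom_comp, ← IsScalarTower.algebraMap_eq]
    rw [h2] at o3
    exact AlgebraicGeometry.IsOpenImmersion.of_comp _
      (AlgebraicGeometry.Spec.map (CommRingCat.ofHom (algebraMap E T)))
  · exact LST1.purelyTranscendental_of_bijective (R := R) (R' := R'') (S := D) (S' := D') p p'' y y''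
      e5.2.2 e3.2.2 hpt
  · have s2 : SmoothRelDim n R' E := BCTools.smoothRelDim_of_isPushout R D R' E n hsm
    have s3 : SmoothRelDim n R' D' := LSTCore.smoothRelDim_away n R' E D' s2 c
    have : Algebra.Etale R' R'' := Algebra.Etale.of_isLocalizationAway h
    exact smoothRelDim_of_etale_base n R' R'' D' s3
  · have : GeomIntegralFibres R'' D' := H h dvd_rfl hh R'' D'
    unfold GeomIrredFibres
    unfold GeomIntegralFibres at this
    infer_instance

end K562.EtLoc
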