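import Groth.Agent.FlatMor.K562.EtLoc1
import Groth.Agent.Flat2B.DimFibre3

/-!
# Lifting étale neighbourhoods along surjections and local dimensions

* `exists_lift`: `S → T` surjective, `T → C` an étale neighbourhood, `R → R'` étale with `C` an `R'`-algebra: there is an
  étale neighbourhood `S → S'`, an `R'`-algebra, with `C = S' ⊗_S T`.
* `locDim_etale`: étale invariance of the local dimension of the fibre of the support.
-/

set_option autoImplicit false
set_option linter.style.haveILetI false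
universe u

namespace K562.EtLoc

open TensorProduct FlatCA Groth.Agent Groth.Agent.Flat2B

attribute [local instance] Algebra.TensorProduct.rightAlgebra in
/-- Lifting étale neighbourhoods along surjections. -/
theorem exists_lift {R S T R' C : Type u} [CommRing R] [CommRing S] [CommRing T] [Algebra R S]
    [Algebra R T] [Algebra S T] [IsScalarTower R S T] (hsurj : Function.Surjective (algebraMap S T))
    [hfp : Algebra.FinitePresentation S T]
    (q : Ideal S) [q.IsPrime] (t : Ideal T) [t.IsPrime] [t.LiesOver q]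
    [CommRing R'] [CommRing C] [Algebra R R'] [Algebra.Etale R R']
    [Algebra T C] [Algebra R' C] [Algebra R C] [IsScalarTower R R' C] [IsScalarTower R T C]
    [Algebra S C] [IsScalarTower S T C]
    (p' : Ideal R') (z : Ideal C) [p'.IsPrime] [z.IsPrime] [z.LiesOver p'] (etaleT : IsEtaleNhd T C t z) :
    ∃ (S' : Type u) (_ : CommRing S') (_ : Algebra S S') (_ : Algebra R' S') (_ : Algebra R S')
      (_ : IsScalarTower R S S') (_ : IsScalarTower R R' S') (_ : Algebra S' C)
      (_ : IsScalarTower S S' C) (_ : IsScalarTower R' S' C) (q' : Ideal S') (_ : q'.IsPrime) (_ : q'.LiesOver p'),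
      IsEtaleNhd S S' q q' ∧ z.LiesOver q' ∧ Function.Surjective (algebraMap S' C) ∧
      Algebra.FinitePresentation S' C ∧ Algebra.IsPushout S S' T C := by
  haveI := etaleT.1
  haveI hzt : z.LiesOver t := etaleT.2.1
  haveI tRSC : IsScalarTower R S C := IsScalarTower.of_algebraMap_eq' (by
    rw [IsScalarTower.algebraMap_eq R T C, IsScalarTower.algebraMap_eq R S T,
      IsScalarTower.algebraMap_eq S T C, RingHom.comp_assoc])
  -- `S₁ = R' ⊗ S`
  let S₁ := R' ⊗[R] S
  haveI : Algebra.Etale S (S ⊗[R] R') := Algebra.Etale.baseChange R R' S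
  haveI : Algebra.Etale S S₁ := Algebra.Etale.of_equiv (Algebra.IsPushout.equiv R S R' S₁)
  let φ : S₁ →ₐ[R'] C := Algebra.TensorProduct.lift (Algebra.ofId R' C) (IsScalarTower.toAlgHom R S C)
    (fun _ _ => Commute.all _ _)
  letI aS₁C : Algebra S₁ C := φ.toRingHom.toAlgebra
  haveI tR'S₁C : IsScalarTower R' S₁ C := IsScalarTower.of_algebraMap_eq' φ.comp_algebraMap.symm
  haveI tSS₁C : IsScalarTower S S₁ C := IsScalarTower.of_algebraMap_eq' (by
    refine RingHom.ext fun s => ?_
    change algebraMap S C s = φ ((1 : R') ⊗ₜ[R] s)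
    rw [Algebra.TensorProduct.lift_tmul, map_one, one_mul]
    rfl)
  -- `T₁ = T ⊗_S S₁`
  let T₁ := T ⊗[S] S₁
  haveI : Algebra.Etale T T₁ := inferInstance
  let ψ : T₁ →ₐ[T] C := Algebra.TensorProduct.lift (Algebra.ofId T C) (IsScalarTower.toAlgHom S S₁ C)
    (fun _ _ => Commute.all _ _)
  letI aT₁C : Algebra T₁ C := ψ.toRingHom.toAlgebra
  haveI tTT₁C : IsScalarTower T T₁ C := IsScalarTower.of_algebraMap_eq' ψ.comp_algebraMap.symm
  haveI tS₁T₁C : IsScalarTower S₁ T₁ C := IsScalarTower.of_algebraMap_eq' (by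
    refine RingHom.ext fun s => ?_
    change algebraMap S₁ C s = ψ ((1 : T) ⊗ₜ[S] s)
    rw [Algebra.TensorProduct.lift_tmul, map_one, one_mul]
    rfl)
  haveI : Algebra.Etale T₁ C := Algebra.Etale.of_restrictScalars T T₁ C
  have hsurj₁ : Function.Surjective (algebraMap S₁ T₁) :=
    Algebra.TensorProduct.includeRight_surjective S₁ hsurj
  obtain ⟨S', _, _, _, ⟨e⟩⟩ := Proet.EtaleLift.exists_etale_lift S₁ T₁ C hsurj₁
  -- algebra structures on `S'`
  letI aSS' : Algebra S S' := ((algebraMap S₁ S').comp (algebraMap S S₁)).toAlgebra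
  haveI tSS₁S' : IsScalarTower S S₁ S' := IsScalarTower.of_algebraMap_eq' rfl
  letI aR'S' : Algebra R' S' := ((algebraMap S₁ S').comp (algebraMap R' S₁)).toAlgebra
  haveI tR'S₁S' : IsScalarTower R' S₁ S' := IsScalarTower.of_algebraMap_eq' rfl
  letI aRS' : Algebra R S' := ((algebraMap S S').comp (algebraMap R S)).toAlgebra
  haveI tRSS' : IsScalarTower R S S' := IsScalarTower.of_algebraMap_eq' rfl
  haveI tRR'S' : IsScalarTower R R' S' := IsScalarTower.of_algebraMap_eq' (by
    rw [IsScalarTower.algebraMap_eq R' S₁ S', RingHom.comp_assoc, ← IsScalarTower.algebraMap_eq R R' S₁,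
      IsScalarTower.algebraMap_eq R S S₁, ← RingHom.comp_assoc]
    rfl)
  letI aS'C : Algebra S' C := (e.toRingHom.comp (algebraMap S' (T₁ ⊗[S₁] S'))).toAlgebra
  haveI tS₁S'C : IsScalarTower S₁ S' C := IsScalarTower.of_algebraMap_eq' (by
    change _ = (e.toRingHom.comp (algebraMap S' (T₁ ⊗[S₁] S'))).comp (algebraMap S₁ S')
    rw [RingHom.comp_assoc, ← IsScalarTower.algebraMap_eq S₁ S' (T₁ ⊗[S₁] S'),
      IsScalarTower.algebraMap_eq S₁ T₁ (T₁ ⊗[S₁] S'), ← RingHom.comp_assoc,
      IsScalarTower.algebraMap_eq S₁ T₁ C]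
    congr 1
    exact e.toAlgHom.comp_algebraMap.symm)
  have hsurjC : Function.Surjective (algebraMap S' C) :=
    e.surjective.comp (Algebra.TensorProduct.includeRight_surjective S' hsurj₁)
  haveI tR'S'C : IsScalarTower R' S' C := IsScalarTower.of_algebraMap_eq' (by
    rw [IsScalarTower.algebraMap_eq R' S₁ S', ← RingHom.comp_assoc, ← IsScalarTower.algebraMap_eq S₁ S' C,
      ← IsScalarTower.algebraMap_eq R' S₁ C])
  haveI tSS'C : IsScalarTower S S' C := IsScalarTower.of_algebraMap_eq' (by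
    rw [IsScalarTower.algebraMap_eq S S₁ S', ← RingHom.comp_assoc, ← IsScalarTower.algebraMap_eq S₁ S' C,
      ← IsScalarTower.algebraMap_eq S S₁ C])
  haveI : Algebra.Etale S S' := Algebra.Etale.comp S S₁ S'
  -- finite presentation
  haveI hfpT₁ : Algebra.FinitePresentation S₁ T₁ :=
    Algebra.FinitePresentation.equiv (Algebra.TensorProduct.commRight S S₁ T)
  have hfpC : Algebra.FinitePresentation S' C := by
    haveI h1 : Algebra.FinitePresentation S' (S' ⊗[S₁] T₁) := inferInstance
    let f : S' ⊗[S₁] T₁ ≃+* C :=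
      (Algebra.TensorProduct.comm S₁ S' T₁).toRingEquiv.trans e.toRingEquiv
    let f' : S' ⊗[S₁] T₁ ≃ₐ[S'] C := AlgEquiv.ofRingEquiv (f := f) (fun _ => rfl)
    exact Algebra.FinitePresentation.equiv (R := S') (A := S' ⊗[S₁] T₁) (B := C) f'
  -- the pushout square
  have po1 : Algebra.IsPushout S S₁ T T₁ := TensorProduct.isPushout'
  haveI tST₁C : IsScalarTower S T₁ C := IsScalarTower.of_algebraMap_eq fun s =>
    (IsScalarTower.algebraMap_apply S T C s).trans ((IsScalarTower.algebraMap_apply T T₁ C _).trans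
      (congrArg _ (IsScalarTower.algebraMap_apply S T T₁ s).symm))
  have po2 : Algebra.IsPushout S₁ S' T₁ C :=
    Algebra.IsPushout.symm ⟨IsBaseChange.of_equiv e.toLinearEquiv fun x => rfl⟩
  have po : Algebra.IsPushout S S' T C :=
    (Algebra.IsPushout.comp_iff (R := S) (S := S₁) (R' := T) (S' := T₁)).2 po2
  -- the primes
  haveI hzS : z.LiesOver q := Ideal.LiesOver.trans z t q
  let q' : Ideal S' := z.comap (algebraMap S' C)
  haveI hzq' : z.LiesOver q' := ⟨rfl⟩
  haveI hq'q : q'.LiesOver q := ⟨by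
    rw [Ideal.over_def z q, Ideal.under_def, Ideal.under_def, Ideal.comap_comap,
      ← IsScalarTower.algebraMap_eq]⟩
  haveI hq'p' : q'.LiesOver p' := ⟨by
    rw [Ideal.over_def z p', Ideal.under_def, Ideal.under_def, Ideal.comap_comap,
      ← IsScalarTower.algebraMap_eq]⟩
  have hres : EtaleNhd.ResTriv S S' q q' := by
    have h1 : EtaleNhd.ResTriv S T q t := EtaleNhd.resTriv_of_surjective hsurj q
      (Ideal.IsPrime.ne_top inferInstance) t
    have h2 : EtaleNhd.ResTriv S C q z := h1.trans (EtaleNhd.resTriv etaleT)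
    exact h2.of_comp_left
  exact ⟨S', inferInstance, aSS', aR'S', aRS', tRSS', tRR'S', aS'C, tSS'C, tR'S'C, q', inferInstance, hq'p',
    EtaleNhd.isEtaleNhd_of hres, hzq', hsurjC, hfpC, po⟩

section Dim

attribute [local instance] Algebra.TensorProduct.rightAlgebra

open Groth.Agent.Flat2B.DimFibre Groth.Agent.Flat2B.DimFibre2 Groth.Agent.Flat2B.DimFibre3

/-- Étale invariance of the local dimension of the fibre of the support. -/
theorem locDim_etale {R S R' S' : Type u} [CommRing R] [CommRing S] [CommRing R'] [CommRing S'] [Algebra R S]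
    [Algebra R R'] [Algebra S S'] [Algebra R' S'] [Algebra R S'] [IsScalarTower R S S'] [IsScalarTower R R' S']
    [Algebra.FiniteType R S] [Algebra.Etale R R'] [Algebra.Etale S S']
    (N : Type u) [AddCommGroup N] [Module S N] [Module R N] [IsScalarTower R S N] [Module.Finite S N]
    (N' : Type u) [AddCommGroup N'] [Module S' N'] [Module R' N'] [IsScalarTower R' S' N'] [Module S N']
    [IsScalarTower S S' N'] (f : N →ₗ[S] N') (hf : IsBaseChange S' f)
    (p : Ideal R) [p.IsPrime] (q : Ideal S) [q.IsPrime] [q.LiesOver p] (n : ℕ)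
    (p' : Ideal R') [p'.IsPrime] [p'.LiesOver p] (q' : Ideal S') [q'.IsPrime] [q'.LiesOver q] [q'.LiesOver p']
    (h1 : ∃ (ξ : PrimeSpectrum (p.Fiber S)) (hξ : ξ ∈ Module.support (p.Fiber S) (FlatCA.fiberMod p S N)),
      ξ.asIdeal = FlatCA.fiberIdeal p q ∧
      FlatMor.localDim (Module.support (p.Fiber S) (FlatCA.fiberMod p S N)) ⟨ξ, hξ⟩ = n) :
    ∃ (ξ : PrimeSpectrum (p'.Fiber S')) (hξ : ξ ∈ Module.support (p'.Fiber S') (FlatCA.fiberMod p' S' N')),
      ξ.asIdeal = FlatCA.fiberIdeal p' q' ∧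
      FlatMor.localDim (Module.support (p'.Fiber S') (FlatCA.fiberMod p' S' N')) ⟨ξ, hξ⟩ = n := by
  obtain ⟨x, hx, hxq, hn⟩ := h1
  have hfinN' : Module.Finite S' N' := Module.Finite.of_surjective hf.equiv.toLinearMap hf.equiv.surjective
  have hsupp : Module.support S' N' =
      PrimeSpectrum.comap (algebraMap S S') ⁻¹' (Module.support S N) := by
    rw [← hf.equiv.support_eq]
    ext P
    exact Flat2C.SupportBaseChange.mem_support_baseChange_iff N P
  have hxpt : x = pt p q := eq_pt_of_asIdeal p q x hxq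
  have hqN : (⟨q, inferInstance⟩ : PrimeSpectrum S) ∈ Module.support S N := by
    rw [hxpt, mem_support_fiberMod_iff, comap_pt] at hx
    exact hx
  have hqF : (⟨q, inferInstance⟩ : PrimeSpectrum S) ∈ Fib p S (Module.support S N) :=
    ⟨(Ideal.over_def q p).symm, hqN⟩
  have h1 : FlatMor.localDim (Fib p S (Module.support S N)) ⟨_, hqF⟩ = n := by
    rw [← hn]
    refine (localDim_support N ⟨x, hx⟩ ⟨_, hqF⟩ ?_).symm
    change PrimeSpectrum.comap (algebraMap S (p.Fiber S)) x = _
    rw [hxpt]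
    exact comap_pt p q
  have hq'F : (⟨q', inferInstance⟩ : PrimeSpectrum S') ∈
      Fib p' S' (PrimeSpectrum.comap (algebraMap S S') ⁻¹' (Module.support S N)) := by
    refine ⟨(Ideal.over_def q' p').symm, ?_⟩
    have : PrimeSpectrum.comap (algebraMap S S') ⟨q', inferInstance⟩ = ⟨q, inferInstance⟩ :=
      PrimeSpectrum.ext (Ideal.over_def q' q).symm
    rw [Set.mem_preimage, this]
    exact hqN
  have h2 : FlatMor.localDim (Fib p' S' (PrimeSpectrum.comap (algebraMap S S') ⁻¹'
      (Module.support S N))) ⟨_, hq'F⟩ = n := by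
    rw [localDim_etale (R := R) (S := S) (R' := R') (S' := S') p p' _ Module.isClosed_support
      ⟨_, hq'F⟩, ← h1]
    congr 1
    exact Subtype.ext (PrimeSpectrum.ext (Ideal.over_def q' q).symm)
  have hset : Fib p' S' (PrimeSpectrum.comap (algebraMap S S') ⁻¹' (Module.support S N)) =
      Fib p' S' (Module.support S' N') := by rw [hsupp]
  have hq'F₂ : (⟨q', inferInstance⟩ : PrimeSpectrum S') ∈
      Fib p' S' (Module.support S' N') := hset ▸ hq'F
  have h3 : FlatMor.localDim (Fib p' S' (Module.support S' N')) ⟨_, hq'F₂⟩ = n := by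
    rw [← h2]
    exact (localDim_congr_set hset _ hq'F hq'F₂).symm
  have hm : pt p' q' ∈ Module.support (p'.Fiber S') (FlatCA.fiberMod p' S' N') := by
    rw [mem_support_fiberMod_iff, comap_pt]
    exact hq'F₂.2
  refine ⟨pt p' q', hm, pt_asIdeal p' q', ?_⟩
  rw [← h3]
  exact localDim_support N' ⟨pt p' q', hm⟩ ⟨_, hq'F₂⟩ (comap_pt p' q')

end Dim

end K562.EtLoc
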