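import Groth.Agent.FlatMor.K562.EtLoc2
import Groth.Agent.S1285
import Groth.Agent.FlatMor.K261.ShrinkDim

/-!
# Étale localization of one-step dévissages

`lift_devissage`: transport of a one-step dévissage at a point along étale neighbourhoods of the base and of the smooth
algebra.
-/

set_option autoImplicit false
universe u

namespace K562.EtLoc

open TensorProduct FlatCA Groth.Agent Groth.Agent.Flat2B

attribute [local instance] Algebra.TensorProduct.rightAlgebra in
/-- Existence of a pushout. -/
lemma exists_pushout (D D'' C : Type u) [CommRing D] [CommRing D''] [CommRing C] [Algebra D D''] [Algebra D C] :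
    ∃ (C'' : Type u) (_ : CommRing C'') (_ : Algebra C C'') (_ : Algebra D'' C'') (_ : Algebra D C'')
      (_ : IsScalarTower D D'' C'') (_ : IsScalarTower D C C''), Algebra.IsPushout D D'' C C'' :=
  ⟨D'' ⊗[D] C, inferInstance, inferInstance, inferInstance, inferInstance, inferInstance, inferInstance,
    TensorProduct.isPushout⟩

/-- Existence of a base change. -/
lemma exists_baseChange (C C'' G : Type u) [CommRing C] [CommRing C''] [Algebra C C''] [AddCommGroup G] [Module C G] :
    ∃ (G'' : Type u) (_ : AddCommGroup G'') (_ : Module C'' G'') (_ : Module C G'') (_ : IsScalarTower C C'' G'')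
      (g : G →ₗ[C] G''), IsBaseChange C'' g :=
  ⟨C'' ⊗[C] G, inferInstance, inferInstance, inferInstance, inferInstance, TensorProduct.mk C C'' G 1,
    TensorProduct.isBaseChange C G C''⟩

theorem lift_devissage
    (R S : Type u) [CommRing R] [CommRing S] [Algebra R S] [Algebra.FiniteType R S]
    (N : Type u) [AddCommGroup N] [Module S N] [Module R N] [IsScalarTower R S N] [Module.Finite S N]
    (p : Ideal R) [p.IsPrime] (q : Ideal S) [q.IsPrime] [q.LiesOver p]
    (C D G : Type u) [CommRing C] [CommRing D] [Algebra S C] [Algebra R C] [IsScalarTower R S C]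
    [Algebra R D] [Algebra D C] [IsScalarTower R D C] [AddCommGroup G] [Module C G] [Module S G]
    [IsScalarTower S C G] (n : ℕ)
    (h : IsOneStepDevissage R S N p C D G n)
    (z : Ideal C) [z.IsPrime] (y : Ideal D) [y.IsPrime] [z.LiesOver q] [z.LiesOver y] [y.LiesOver p]
    (h1 : ∃ (ξ : PrimeSpectrum (p.Fiber S)) (hξ : ξ ∈ Module.support (p.Fiber S) (fiberMod p S N)),
      ξ.asIdeal = fiberIdeal p q ∧
      FlatMor.localDim (Module.support (p.Fiber S) (fiberMod p S N)) ⟨ξ, hξ⟩ = n)
    (h3 : ∀ (z₁ : Ideal C) [z₁.IsPrime], z₁.LiesOver y → z₁ = z)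
    (R'' : Type u) [CommRing R''] [Algebra R R''] (p'' : Ideal R'') [p''.IsPrime] (hR'' : IsEtaleNhd R R'' p p'')
    (D'' : Type u) [CommRing D''] [Algebra D D''] [Algebra R'' D''] [Algebra R D''] [IsScalarTower R R'' D'']
    [IsScalarTower R D D''] (y'' : Ideal D'') [y''.IsPrime] (hD'' : IsEtaleNhd D D'' y y'') [y''.LiesOver p'']
    (hsm : SmoothRelDim n R'' D'') (hgi : GeomIrredFibres R'' D'') (hpt : PurelyTranscendental p'' y'') :
    ∃ (C'' : Type u) (_ : CommRing C'') (_ : Algebra C C'') (_ : Algebra D'' C'') (_ : Algebra D C'')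
      (_ : Algebra R'' C'') (_ : IsScalarTower D D'' C'') (_ : IsScalarTower D C C'') (_ : IsScalarTower R'' D'' C'')
      (z'' : Ideal C'') (_ : z''.IsPrime) (_ : z''.LiesOver z) (_ : z''.LiesOver y''),
      Algebra.IsPushout D D'' C C'' ∧
    ∃ (G'' : Type u) (_ : AddCommGroup G'') (_ : Module C'' G'') (_ : Module C G'') (_ : IsScalarTower C C'' G'')
      (gG : G →ₗ[C] G''), IsBaseChange C'' gG ∧
    ∃ (S'' : Type u) (_ : CommRing S'') (_ : Algebra S S'') (_ : Algebra R'' S'') (_ : Algebra R S'')
      (_ : IsScalarTower R S S'') (_ : IsScalarTower R R'' S'') (q'' : Ideal S'') (_ : q''.IsPrime)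
      (_ : Algebra S'' C'') (_ : Algebra S C'') (_ : IsScalarTower S S'' C'') (_ : IsScalarTower S C C'')
      (_ : IsScalarTower R'' S'' C'') (_ : Module S'' G'') (_ : IsScalarTower S'' C'' G''),
      IsEtaleNhd S S'' q q'' ∧ z''.LiesOver q'' ∧
    ∃ (N'' : Type u) (_ : AddCommGroup N'') (_ : Module S'' N'') (_ : Module S N'') (_ : IsScalarTower S S'' N'')
      (_ : Module R'' N'') (_ : IsScalarTower R'' S'' N'') (gN : N →ₗ[S] N''), IsBaseChange S'' gN ∧
      IsOneStepDevissage R'' S'' N'' p'' C'' D'' G'' n ∧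
      (∃ (ξ : PrimeSpectrum (p''.Fiber S'')) (hξ : ξ ∈ Module.support (p''.Fiber S'') (fiberMod p'' S'' N'')),
        ξ.asIdeal = fiberIdeal p'' q'' ∧
        FlatMor.localDim (Module.support (p''.Fiber S'') (fiberMod p'' S'' N'')) ⟨ξ, hξ⟩ = n) ∧
      (∀ (z₂ : Ideal C'') [z₂.IsPrime], z₂.LiesOver y'' → z₂ = z'') ∧
      PurelyTranscendental p'' y'' := by
  obtain ⟨⟨eN⟩, hsurj, hfp, hfinD, hfinG, -, -, -⟩ := h
  have etR := hR''.1
  have etD := hD''.1
  have lp : p''.LiesOver p := hR''.2.1
  have ly : y''.LiesOver y := hD''.2.1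
  obtain ⟨C'', _, _, _, _, _, _, poC⟩ := exists_pushout D D'' C
  have poC' : Algebra.IsPushout D C D'' C'' := poC.symm
  obtain ⟨z'', hz'', hz''z, hz''y, eC, huniq⟩ := EtaleNhd.exists_isEtaleNhd_pushout (R := D) (R' := D'')
    (S := C) (S' := C'') (p := y) (p' := y'') (q := z) hD'' inferInstance
  let _ : Algebra R'' C'' := ((algebraMap D'' C'').comp (algebraMap R'' D'')).toAlgebra
  have tR''D''C'' : IsScalarTower R'' D'' C'' := IsScalarTower.of_algebraMap_eq' rfl
  let _ : Algebra S C'' := ((algebraMap C C'').comp (algebraMap S C)).toAlgebra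
  have tSCC'' : IsScalarTower S C C'' := IsScalarTower.of_algebraMap_eq' rfl
  let _ : Algebra R C'' := ((algebraMap C C'').comp (algebraMap R C)).toAlgebra
  have tRCC'' : IsScalarTower R C C'' := IsScalarTower.of_algebraMap_eq' rfl
  have tRR''C'' : IsScalarTower R R'' C'' := IsScalarTower.of_algebraMap_eq fun r => by
    rw [IsScalarTower.algebraMap_apply R C C'', IsScalarTower.algebraMap_apply R D C,
      ← IsScalarTower.algebraMap_apply D C C'', IsScalarTower.algebraMap_apply D D'' C'',
      ← IsScalarTower.algebraMap_apply R D D'', IsScalarTower.algebraMap_apply R R'' D'',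
      ← IsScalarTower.algebraMap_apply R'' D'' C'']
  have hz''p : z''.LiesOver p'' := Ideal.LiesOver.trans z'' y'' p''
  obtain ⟨S'', _, _, _, _, _, _, _, _, _, q'', hq'', hq''p, eS, hz''q, hsurj'', hfp'', poS⟩ :=
    exists_lift (R := R) (R' := R'') (S := S) (T := C) (C := C'') hsurj q z p'' z'' eC
  obtain ⟨G'', _, _, _, _, gG, hgG⟩ := exists_baseChange C C'' G
  obtain ⟨N'', _, _, _, _, gN, hgN⟩ := exists_baseChange S S'' N
  let _ : Module S'' G'' := Module.compHom G'' (algebraMap S'' C'')
  have tS''C''G'' : IsScalarTower S'' C'' G'' := IsScalarTower.of_algebraMap_smul fun _ _ => rfl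
  let _ : Module R'' N'' := Module.compHom N'' (algebraMap R'' S'')
  have tR''S''N'' : IsScalarTower R'' S'' N'' := IsScalarTower.of_algebraMap_smul fun _ _ => rfl
  have etS := eS.1
  have lq : q''.LiesOver q := eS.2.1
  have hloc := locDim_etale (R := R) (S := S) (R' := R'') (S' := S'') N N'' gN hgN p q n p'' q'' h1
  -- the isomorphism of modules
  have eNG : N'' ≃ₗ[S''] G'' := by
    have e1 : N'' ≃ₗ[S''] S'' ⊗[S] N := hgN.equiv.symm
    have e2 : S'' ⊗[S] N ≃ₗ[S''] S'' ⊗[S] G := AlgebraTensorModule.congr (LinearEquiv.refl S'' S'') eN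
    have e3 : C'' ⊗[C] G ≃ₗ[S''] S'' ⊗[S] G := Algebra.IsPushout.cancelBaseChange S S'' C C'' G
    have e4 : C'' ⊗[C] G ≃ₗ[S''] G'' := hgG.equiv.restrictScalars S''
    exact e1 ≪≫ₗ e2 ≪≫ₗ e3.symm ≪≫ₗ e4
  have hfD'' : Module.Finite D'' C'' := BCTools.finite_of_isPushout D C D'' C''
  have hfG'' : Module.Finite C'' G'' :=
    Module.Finite.of_surjective hgG.equiv.toLinearMap hgG.equiv.surjective
  have hfN'' : Module.Finite S'' N'' :=
    Module.Finite.of_surjective hgN.equiv.toLinearMap hgN.equiv.surjective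
  refine ⟨C'', inferInstance, inferInstance, inferInstance, inferInstance, inferInstance, inferInstance, inferInstance,
    tR''D''C'', z'', hz'', hz''z, hz''y, poC, G'', inferInstance, inferInstance, inferInstance, inferInstance, gG, hgG,
    S'', inferInstance, inferInstance, inferInstance, inferInstance, inferInstance, inferInstance, q'', hq'',
    inferInstance, inferInstance, inferInstance, tSCC'', inferInstance, inferInstance, tS''C''G'', eS, hz''q,
    N'', inferInstance, inferInstance, inferInstance, inferInstance, inferInstance, tR''S''N'', gN, hgN,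
    ⟨⟨eNG⟩, hsurj'', hfp'', hfD'', hfG'', hsm, hgi, ?_⟩, hloc, ?_, hpt⟩
  · -- the dimension
    apply le_antisymm
    · let _ : Module D'' G'' := Module.compHom G'' (algebraMap D'' C'')
      have t1 : IsScalarTower D'' C'' G'' := IsScalarTower.of_algebraMap_smul fun _ _ => rfl
      let _ : Module R'' G'' := Module.compHom G'' (algebraMap R'' D'')
      have t2 : IsScalarTower R'' D'' G'' := IsScalarTower.of_algebraMap_smul fun _ _ => rfl
      have hfDG : Module.Finite D'' G'' := Module.Finite.trans C'' G''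
      refine (S1285.supportDim_fiberMod_le N'' p'' C'' D'' G'' eNG hsurj'').trans
        ((Module.supportDim_le_ringKrullDim _ _).trans ?_)
      exact Flat2C.SmoothDim.ringKrullDim_fiber_le n R'' D'' hsm p''
    · obtain ⟨ξ, hξ, -, hd⟩ := hloc
      have hfm : Module.Finite (p''.Fiber S'') (fiberMod p'' S'' N'') := DimFibre.finite_fiberMod p'' N''
      rw [← hd, Module.supportDim, ← K261.ShrinkDim.topologicalKrullDim_subset _ Module.isClosed_support]
      exact VarietyB.DimTop.localDim_le_dim _
  · intro z₂ _ hz₂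
    have hz₂y : z₂.LiesOver y := Ideal.LiesOver.trans z₂ y'' y
    have h5 : (z₂.comap (algebraMap C C'')).IsPrime := Ideal.IsPrime.comap _
    have h6 : z₂.comap (algebraMap C C'') = z := by
      refine h3 _ ⟨?_⟩
      rw [Ideal.under_def, Ideal.comap_comap, ← IsScalarTower.algebraMap_eq]
      exact hz₂y.over
    exact huniq z₂ ⟨h6.symm⟩ hz₂

end K562.EtLoc
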