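import Groth.Agent.FlatMor.K562.LowAmpD
import Groth.Agent.PerfA.Restrict
import Groth.Agent.PerfA.TildeSupp
import Groth.Agent.Dual.H328.LpullSingle
import Groth.Agent.Models2.TorDimRel
import Groth.Agent.KSix.K238.RingInD
import Groth.Agent.LoccohB.GoodSch
import Groth.Agent.Dcoh.StalkRestrict
import Groth.Agent.Dcoh.AdPull
import Groth.Agent.PerfC.LpullRestrict
import Groth.Agent.PerfB.LpullKit
import Groth.Agent.PerfB.DualMod
import Groth.Agent.S1055
import Groth.Agent.S2394

/-!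
# Objects of `D(O_S)` which become flat modules in degree zero after pulling back along a surjective morphism
-/

set_option autoImplicit false

universe u

open CategoryTheory CategoryTheory.Limits AlgebraicGeometry

attribute [local instance] HasDerivedCategory.standard

namespace K562.FlatDegZero

open Groth.Agent Groth.Agent.PerfA.Restrict Groth.Agent.PerfA.TildeSupp

/-- The cohomology of an object of tor amplitude in `[0, 0]` in degree zero is flat. -/
lemma flat_of_torAmp {A : Type u} [CommRing A] {K : Dual.D A} (h : DRing.HasTorAmplitudeIn A 0 0 K) :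
    Module.Flat A ((DerivedCategory.homologyFunctor (ModuleCat.{u} A) 0).obj K) := by
  obtain ⟨E, h1, h2, ⟨e⟩⟩ := h
  have i1 : E.IsStrictlyGE 0 := by
    rw [CochainComplex.isStrictlyGE_iff]
    exact fun i hi => h1 i (Or.inl hi)
  have i2 : E.IsStrictlyLE 0 := by
    rw [CochainComplex.isStrictlyLE_iff]
    exact fun i hi => h1 i (Or.inr hi)
  obtain ⟨M, ⟨e1⟩⟩ := CochainComplex.exists_iso_single E 0
  have e2' : ((HomologicalComplex.single (ModuleCat.{u} A) (ComplexShape.up ℤ) 0).obj M).X 0 ≅ E.X 0 :=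
    (HomologicalComplex.eval (ModuleCat.{u} A) (ComplexShape.up ℤ) 0).mapIso e1.symm
  have e2 : M ≅ E.X 0 := (HomologicalComplex.singleObjXSelf (ComplexShape.up ℤ) 0 M).symm ≪≫ e2'
  have e3 : K ≅ (DerivedCategory.singleFunctor (ModuleCat.{u} A) 0).obj M :=
    e.symm ≪≫ DerivedCategory.Q.mapIso e1 ≪≫
      ((DerivedCategory.singleFunctorIsoCompQ (ModuleCat.{u} A) 0).app M).symm
  have e4 : (DerivedCategory.homologyFunctor (ModuleCat.{u} A) 0).obj K ≅ E.X 0 :=
    (DerivedCategory.homologyFunctor (ModuleCat.{u} A) 0).mapIso e3 ≪≫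
      (DerivedCategory.singleFunctorCompHomologyFunctorIso (ModuleCat.{u} A) 0).app M ≪≫ e2
  have := h2 0
  exact Module.Flat.of_linearEquiv e4.toLinearEquiv

/-- An object with cohomology only in degree zero, which is flat, has tor amplitude in `[0, 0]`. -/
lemma torAmp_of_flat {A : Type u} [CommRing A] {K : Dual.D A}
    (h0 : ∀ i : ℤ, i ≠ 0 → IsZero ((DerivedCategory.homologyFunctor (ModuleCat.{u} A) i).obj K))
    (h : Module.Flat A ((DerivedCategory.homologyFunctor (ModuleCat.{u} A) 0).obj K)) :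
    DRing.HasTorAmplitudeIn A 0 0 K := by
  have i1 : K.IsGE 0 := by
    rw [DerivedCategory.isGE_iff]
    exact fun i hi => h0 i (by omega)
  have i2 : K.IsLE 0 := by
    rw [DerivedCategory.isLE_iff]
    exact fun i hi => h0 i (by omega)
  obtain ⟨M, ⟨e⟩⟩ := K.exists_iso_singleFunctor_obj_of_isGE_of_isLE 0
  have e4 : (DerivedCategory.homologyFunctor (ModuleCat.{u} A) 0).obj K ≅ M :=
    (DerivedCategory.homologyFunctor (ModuleCat.{u} A) 0).mapIso e ≪≫
      (DerivedCategory.singleFunctorCompHomologyFunctorIso (ModuleCat.{u} A) 0).app M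
  have : Module.Flat A M := Module.Flat.of_linearEquiv e4.toLinearEquiv.symm
  exact K227.PerfFlat.torAmp_of_iso e.symm (K238.RingInD.torAmp_inD (A := A) M)

/-- Flatness of `M~`. -/
lemma isFlat_tilde_iff (A : CommRingCat.{u}) (M : ModuleCat.{u} A) :
    FlatMod.IsFlat ((tilde.functor A).obj M) ↔ Module.Flat A M := by
  have h1 := S2394.result A A M
  rw [← h1]
  have : IsOpenImmersion (Spec.map (CommRingCat.ofHom (algebraMap A A))) := by
    have : IsIso (CommRingCat.ofHom (algebraMap A A)) := by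
      change IsIso (𝟙 (CommRingCat.of A))
      infer_instance
    infer_instance
  exact (Models2.TorDimRel.isFlatOver_iff (Spec.map (CommRingCat.ofHom (algebraMap A A)))
    ((tilde.functor A).obj M)).symm

lemma isZero_of_tilde {A : CommRingCat.{u}} {M : ModuleCat.{u} A} (h : IsZero ((tilde.functor A).obj M)) : IsZero M := by
  rw [IsZero.iff_id_eq_zero] at h ⊢
  apply (tilde.functor A).map_injective
  rw [CategoryTheory.Functor.map_id, h, Functor.map_zero]

/-- The cohomology of `M~` for an object `M` of `D(A)`. -/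
lemma tildeD_iff {A : CommRingCat.{u}} (K : DerivedCategory (ModuleCat.{u} A)) {L : DCoh.D (Spec A)}
    (e : (DCoh.tildeD A).obj K ≅ L) (i : ℤ) :
    Nonempty (DCoh.HD L i ≅ (tilde.functor A).obj ((DerivedCategory.homologyFunctor (ModuleCat.{u} A) i).obj K)) :=
  ⟨(DerivedCategory.homologyFunctor _ i).mapIso e.symm ≪≫ HDtilde K i⟩

/-- Affine case. -/
theorem affine {A B : CommRingCat.{u}} (φ : A ⟶ B) (hφ : φ.hom.FinitePresentation)
    (hs : Function.Surjective (PrimeSpectrum.comap φ.hom)) (M : DCoh.D (Spec A)) (hM : DCoh.IsQCohD M)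
    (hpos : ∀ i : ℤ, 0 < i → IsZero (DCoh.HD M i)) [DCoh.HasLpull (Spec.map φ)] (F : (Spec B).Modules)
    (hF : FlatMod.IsFlat F) (e : (DCoh.Lpull (Spec.map φ)).obj M ≅ DCoh.inD (Spec B) F) :
    (∀ i : ℤ, i ≠ 0 → IsZero (DCoh.HD M i)) ∧ FlatMod.IsFlat (DCoh.HD M 0) := by
  obtain ⟨K, ⟨eK⟩⟩ := LoccohB.GoodSch.exists_tildeD A M hM
  have := LoccohB.LBC.hasLBaseChange φ.hom
  obtain ⟨eL⟩ := S1055.result φ.hom
  -- the derived base change
  have eB : (DCoh.tildeD B).obj ((DRing.LBaseChange φ.hom).obj K) ≅ DCoh.inD (Spec B) F :=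
    eL.app K ≪≫ (DCoh.Lpull (Spec.map φ)).mapIso eK ≪≫ e
  have hB : DRing.HasTorAmplitudeIn B 0 0 ((DRing.LBaseChange φ.hom).obj K) := by
    refine torAmp_of_flat (fun i hi => ?_) ?_
    · obtain ⟨e1⟩ := tildeD_iff _ eB i
      exact isZero_of_tilde ((PerfB.DualMod.isZero_HD_inD F i hi).of_iso e1.symm)
    · obtain ⟨e1⟩ := tildeD_iff _ eB 0
      refine (isFlat_tilde_iff B _).1 (Dcoh.FlatRes.isFlat_of_iso (?_ ≪≫ e1) hF)
      exact ((DerivedCategory.singleFunctorCompHomologyFunctorIso (Spec B).Modules 0).app F).symm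
  have hK : ∀ i : ℤ, 0 < i → Subsingleton (Dual.HD A K i) := by
    intro i hi
    obtain ⟨e1⟩ := tildeD_iff _ eK i
    exact ModuleCat.subsingleton_of_isZero (isZero_of_tilde ((hpos i hi).of_iso e1.symm))
  have hA := LowAmpD.torAmp_of_surjective φ.hom hφ hs K 0 0 hK hB
  constructor
  · intro i hi
    obtain ⟨e1⟩ := tildeD_iff _ eK i
    have h1 := K227.PerfFlat.subsingleton_HD_of_torAmp hA i (by omega)
    have h2 : IsZero ((DerivedCategory.homologyFunctor (ModuleCat.{u} A) i).obj K) :=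
      @ModuleCat.isZero_of_subsingleton A _ _ h1
    exact ((tilde.functor A).map_isZero h2).of_iso e1
  · obtain ⟨e1⟩ := tildeD_iff _ eK 0
    exact Dcoh.FlatRes.isFlat_of_iso e1.symm ((isFlat_tilde_iff A _).2 (flat_of_torAmp hA))

/-- **Descent of flat modules in degree zero along surjective morphisms locally of finite presentation.** -/
theorem main {X S : Scheme.{u}} (f : X ⟶ S) [Surjective f]
    [LocallyOfFinitePresentation f] [QuasiCompact f] [DCoh.HasLpull f]
    (M : DCoh.D S) (hM : DCoh.IsQCohD M) (hpos : ∀ i : ℤ, 0 < i → IsZero (DCoh.HD M i))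
    (F : X.Modules) (hF : FlatMod.IsFlat F) (e : (DCoh.Lpull f).obj M ≅ DCoh.inD X F) :
    ∃ G : S.Modules, FlatMod.IsFlat G ∧ Nonempty (M ≅ DCoh.inD S G) := by
  have key : ∀ (A : CommRingCat.{u}) (j : Spec A ⟶ S) [IsOpenImmersion j],
      (∀ i : ℤ, i ≠ 0 → IsZero (DCoh.HD ((restrictD j).obj M) i)) ∧
        FlatMod.IsFlat (DCoh.HD ((restrictD j).obj M) 0) := by
    intro A j _
    have hc : CompactSpace ↥(pullback f j) := QuasiCompact.compactSpace_of_compactSpace (pullback.snd f j)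
    obtain ⟨Y, p, _, _, _⟩ := Scheme.exists_hom_isAffine_of_isZariskiLocalAtSource @Etale (pullback f j)
    let q : Spec Γ(Y, ⊤) ⟶ Spec A := Y.isoSpec.inv ≫ p ≫ pullback.snd f j
    let r : Spec Γ(Y, ⊤) ⟶ X := Y.isoSpec.inv ≫ p ≫ pullback.fst f j
    have hq : q ≫ j = r ≫ f := by
      simp only [q, r, Category.assoc, pullback.condition]
    obtain ⟨φ, hφ⟩ := Spec.map_surjective q
    have h1 : φ.hom.FinitePresentation := by
      rw [← HasRingHomProperty.Spec_iff (P := @LocallyOfFinitePresentation), hφ]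
      infer_instance
    have h2 : Function.Surjective (PrimeSpectrum.comap φ.hom) := by
      have : Surjective (Spec.map φ) := by rw [hφ]; infer_instance
      exact this.surj
    have := PerfB.LpullKit.hasLpull (Spec.map φ)
    have := PerfB.LpullKit.hasLpull r
    have := PerfB.LpullKit.hasLpull (r ≫ f)
    have e1 : (DCoh.Lpull (r ≫ f)).obj M ≅ DCoh.inD _ ((Scheme.Modules.pullback r).obj F) :=
      PerfB.LpullKit.lpullComp r f M ≪≫ (DCoh.Lpull r).mapIso e ≪≫
        (Dual.H328.LpullSingle.nonempty_lpull_inD r F hF).some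
    have e2 : ∀ (g : Spec Γ(Y, ⊤) ⟶ Spec A) [DCoh.HasLpull g] (h : Spec Γ(Y, ⊤) ⟶ S) [DCoh.HasLpull h] (_ : g ≫ j = h),
        Nonempty ((DCoh.Lpull h).obj M ≅ (DCoh.Lpull g).obj ((restrictD j).obj M)) := by
      rintro g _ _ _ rfl
      exact ⟨PerfB.LpullKit.lpullRestrict g j M⟩
    obtain ⟨e3⟩ := e2 (Spec.map φ) (r ≫ f) (by rw [hφ, hq])
    refine affine φ h1 h2 ((restrictD j).obj M) (fun i => ?_) (fun i hi => ?_) _
      (Dcoh.AdPull.isFlat_pullback r F hF) (e3.symm ≪≫ e1)
    · exact PerfA.QCohD.isQCohD_restrictD j hM i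
    · exact ((Scheme.Modules.restrictFunctor j).map_isZero (hpos i hi)).of_iso (HDrestrict j M i)
  have hz : ∀ i : ℤ, i ≠ 0 → IsZero (DCoh.HD M i) := by
    intro i hi
    refine isZero_of_restrict _ fun x => ?_
    obtain ⟨U, hU, hxU, -⟩ := exists_isAffineOpen_mem_and_subset (U := ⊤) (x := x) trivial
    obtain ⟨y, hy⟩ : x ∈ Set.range hU.fromSpec := by
      rw [hU.range_fromSpec]
      exact hxU
    exact ⟨_, hU.fromSpec, inferInstance, y, hy,
      ((key _ hU.fromSpec).1 i hi).of_iso (HDrestrict hU.fromSpec M i).symm⟩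
  have i1 : M.IsGE 0 := by
    rw [DerivedCategory.isGE_iff]
    exact fun i hi => hz i (by omega)
  have i2 : M.IsLE 0 := by
    rw [DerivedCategory.isLE_iff]
    exact fun i hi => hz i (by omega)
  obtain ⟨G, ⟨e'⟩⟩ := M.exists_iso_singleFunctor_obj_of_isGE_of_isLE 0
  refine ⟨G, ?_, ⟨e'⟩⟩
  have e4 : DCoh.HD M 0 ≅ G := (DerivedCategory.homologyFunctor _ 0).mapIso e' ≪≫
      (DerivedCategory.singleFunctorCompHomologyFunctorIso S.Modules 0).app G
  refine Dcoh.FlatRes.isFlat_of_iso e4 fun x => ?_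
  obtain ⟨U, hU, hxU, -⟩ := exists_isAffineOpen_mem_and_subset (U := ⊤) (x := x) trivial
  have h1 := Dcoh.FlatRes.isFlat_of_iso (HDrestrict hU.fromSpec M 0) (key _ hU.fromSpec).2
  obtain ⟨y, rfl⟩ : x ∈ Set.range hU.fromSpec := by
    rw [hU.range_fromSpec]
    exact hxU
  exact (Dcoh.StalkRestrict.isFlatAt_restrict_iff hU.fromSpec (DCoh.HD M 0) y).1 (h1 y)

end K562.FlatDegZero
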