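import Groth.Agent.S0389
import Groth.Agent.Flat2C.FreeQuot
import Groth.Agent.Flat2H.PairModel
import Mathlib.RingTheory.Flat.FaithfullyFlat.Algebra
import Mathlib.RingTheory.Flat.Stability
import Mathlib.Algebra.Module.LocalizedModule.Exact

/-!
# Lower tor amplitude bounds and stratifications

`(X i, d i)` is a sequence of flat `A`-modules and linear maps with `d (i + 1) ∘ d i = 0`, indexed by the naturals
(homological conventions: `d i : X (i + 1) → X i`).  `Good X d R` says that `M ⊗ X` is exact in all positive degrees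
for all modules `M` over the `A`-algebra `R`.

* `goodOver_of_faithfullyFlat`: descent along faithfully flat maps `R → R'`.
* `goodOver_of_quotient_of_away`: `Good` over `R ⧸ f` and `R_f` gives `Good` over `R`.
* `goodOver_of_surjective`: if `A → B` is of finite presentation and surjective on spectra then `Good` over `B` gives
  `Good` over `A`.
-/

set_option autoImplicit false

universe u

open TensorProduct

namespace K562.LowAmp

section Chase

variable {A : Type u} [CommRing A] {X₀ X₁ X₂ X₃ : Type u} [AddCommGroup X₀] [AddCommGroup X₁] [AddCommGroup X₂]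
  [AddCommGroup X₃] [Module A X₀] [Module A X₁] [Module A X₂] [Module A X₃]
  (d₀ : X₀ →ₗ[A] X₁) (d₁ : X₁ →ₗ[A] X₂) (d₂ : X₂ →ₗ[A] X₃)
  {M' M M'' : Type u} [AddCommGroup M'] [AddCommGroup M] [AddCommGroup M''] [Module A M'] [Module A M] [Module A M'']
  (i : M' →ₗ[A] M) (p : M →ₗ[A] M'')

lemma comm (d : X₀ →ₗ[A] X₁) (g : M' →ₗ[A] M) (x : M' ⊗[A] X₀) :
    g.rTensor X₁ (d.lTensor M' x) = d.lTensor M (g.rTensor X₀ x) := by
  rw [← LinearMap.comp_apply, ← LinearMap.comp_apply, LinearMap.rTensor_comp_lTensor, LinearMap.lTensor_comp_rTensor]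

lemma dd (hd : d₁ ∘ₗ d₀ = 0) (x : M ⊗[A] X₀) : d₁.lTensor M (d₀.lTensor M x) = 0 := by
  rw [← LinearMap.comp_apply, ← LinearMap.lTensor_comp, hd, LinearMap.lTensor_zero, LinearMap.zero_apply]

/-- Extensions. -/
theorem exact_ext (hd : d₁ ∘ₗ d₀ = 0) [Module.Flat A X₂] (hi : Function.Injective i) (hip : Function.Exact i p)
    (hp : Function.Surjective p) (h' : Function.Exact (d₀.lTensor M') (d₁.lTensor M'))
    (h'' : Function.Exact (d₀.lTensor M'') (d₁.lTensor M'')) : Function.Exact (d₀.lTensor M) (d₁.lTensor M) := by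
  intro x
  constructor
  · intro hx
    obtain ⟨y'', hy''⟩ := (h'' (p.rTensor X₁ x)).1 (by rw [← comm, hx, map_zero])
    obtain ⟨y, hy⟩ := LinearMap.rTensor_surjective X₀ hp y''
    obtain ⟨x', hx'⟩ := ((rTensor_exact X₁ hip hp) (x - d₀.lTensor M y)).1 (by
      rw [map_sub, comm, hy, hy'', sub_self])
    obtain ⟨y', hy'⟩ := (h' x').1 (by
      apply Module.Flat.rTensor_preserves_injective_linearMap (M := X₂) i hi
      rw [comm, hx', map_sub, hx, dd _ _ hd, map_zero, sub_zero])
    refine ⟨y + i.rTensor X₀ y', ?_⟩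
    rw [map_add, ← comm, hy', hx', add_sub_cancel]
  · rintro ⟨y, rfl⟩
    exact dd _ _ hd y

/-- Submodules. -/
theorem exact_sub (hd : d₁ ∘ₗ d₀ = 0) (hd' : d₂ ∘ₗ d₁ = 0) [Module.Flat A X₂] (hi : Function.Injective i)
    (hip : Function.Exact i p) (hp : Function.Surjective p)
    (h'' : Function.Exact (d₀.lTensor M'') (d₁.lTensor M''))
    (h : Function.Exact (d₁.lTensor M) (d₂.lTensor M)) : Function.Exact (d₁.lTensor M') (d₂.lTensor M') := by
  intro x
  constructor
  · intro hx
    obtain ⟨y, hy⟩ := (h (i.rTensor X₂ x)).1 (by rw [← comm, hx, map_zero])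
    obtain ⟨z'', hz''⟩ := (h'' (p.rTensor X₁ y)).1 (by
      rw [← comm, hy, ← LinearMap.comp_apply, ← LinearMap.rTensor_comp, hip.linearMap_comp_eq_zero,
        LinearMap.rTensor_zero, LinearMap.zero_apply])
    obtain ⟨z, hz⟩ := LinearMap.rTensor_surjective X₀ hp z''
    obtain ⟨y', hy'⟩ := ((rTensor_exact X₁ hip hp) (y - d₀.lTensor M z)).1 (by
      rw [map_sub, comm, hz, hz'', sub_self])
    refine ⟨y', ?_⟩
    apply Module.Flat.rTensor_preserves_injective_linearMap (M := X₂) i hi
    rw [comm, hy', map_sub, hy, dd _ _ hd, sub_zero]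
  · rintro ⟨y, rfl⟩
    exact dd _ _ hd' y

/-- Exactness may be tested on a cofinal family of submodules. -/
theorem exact_of_fg (hd : d₁ ∘ₗ d₀ = 0) [Module.Flat A X₂]
    (h : ∀ N : Submodule A M, Module.Finite A N → ∃ N' : Submodule A M, N ≤ N' ∧
      Function.Exact (d₀.lTensor N') (d₁.lTensor N')) :
    Function.Exact (d₀.lTensor M) (d₁.lTensor M) := by
  intro x
  constructor
  · intro hx
    obtain ⟨N, hN, hxN⟩ := TensorProduct.exists_finite_submodule_left_of_setFinite (R := A) (M := M) (N := X₁) {x}
      (Set.finite_singleton x)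
    obtain ⟨y₀, hy₀⟩ := hxN rfl
    obtain ⟨N', hNN', hex⟩ := h N hN
    obtain ⟨y, hy⟩ : ∃ y : N' ⊗[A] X₁, N'.subtype.rTensor X₁ y = x :=
      ⟨(Submodule.inclusion hNN').rTensor X₁ y₀, by
        rw [← LinearMap.comp_apply, ← LinearMap.rTensor_comp, ← hy₀]; rfl⟩
    obtain ⟨z, hz⟩ := (hex y).1 (by
      apply Module.Flat.rTensor_preserves_injective_linearMap (M := X₂) N'.subtype N'.subtype_injective
      rw [comm, hy, hx, map_zero])
    exact ⟨N'.subtype.rTensor X₀ z, by rw [← comm, hz, hy]⟩
  · rintro ⟨y, rfl⟩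
    exact dd _ _ hd y

end Chase

/-- The sequence `X` is exact in positive degrees after tensoring with every module over the `A`-algebra `R`. -/
def Good {A : Type u} [CommRing A] (X : ℕ → Type u) [∀ i, AddCommGroup (X i)] [∀ i, Module A (X i)]
    (d : ∀ i, X (i + 1) →ₗ[A] X i) (R : Type u) [CommRing R] [Algebra A R] : Prop :=
  ∀ (M : Type u) [AddCommGroup M] [Module A M] [Module R M] [IsScalarTower A R M] (i : ℕ),
    Function.Exact ((d (i + 1)).lTensor M) ((d i).lTensor M)

section Good

variable {A : Type u} [CommRing A] {X : ℕ → Type u} [∀ i, AddCommGroup (X i)] [∀ i, Module A (X i)]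
    {d : ∀ i, X (i + 1) →ₗ[A] X i} {R R' : Type u} [CommRing R] [CommRing R'] [Algebra A R] [Algebra A R']

theorem Good.of_algebra [Algebra R R'] [IsScalarTower A R R'] (h : Good X d R) : Good X d R' := by
  intro M _ _ _ _ i
  let _ : Module R M := Module.compHom M (algebraMap R R')
  have : IsScalarTower A R M := IsScalarTower.of_algebraMap_smul fun a m => by
    change algebraMap R R' (algebraMap A R a) • m = _
    rw [← IsScalarTower.algebraMap_apply, algebraMap_smul]
  exact h M i

theorem Good.of_faithfullyFlat [Algebra R R'] [IsScalarTower A R R'] [Module.FaithfullyFlat R R']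
    (h : Good X d R') : Good X d R := by
  intro M _ _ _ _ i
  let _ : Module A (R' ⊗[R] M) := inferInstance
  have h1 := h (R' ⊗[R] M) i
  have key : ∀ (j : ℕ) (x : (R' ⊗[R] M) ⊗[A] X (j + 1)),
      (AlgebraTensorModule.lTensor R M (d j)).lTensor R' (AlgebraTensorModule.assoc A R R' R' M (X (j + 1)) x) =
      AlgebraTensorModule.assoc A R R' R' M (X j) ((d j).lTensor (R' ⊗[R] M) x) := by
    intro j x
    induction x using TensorProduct.induction_on with
    | zero => simp only [map_zero]
    | add x y hx hy => simp only [map_add, hx, hy]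
    | tmul rm x =>
      induction rm using TensorProduct.induction_on with
      | zero => simp only [TensorProduct.zero_tmul, map_zero]
      | add x y hx hy => simp only [TensorProduct.add_tmul, map_add, hx, hy]
      | tmul r m => rfl
  have h2 : Function.Exact (AlgebraTensorModule.lTensor R M (d (i + 1))) (AlgebraTensorModule.lTensor R M (d i)) := by
    rw [← Module.FaithfullyFlat.lTensor_exact_iff_exact R R']
    refine (Function.Exact.iff_of_ladder_addEquiv
      (AlgebraTensorModule.assoc A R R' R' M (X (i + 1 + 1))).toAddEquiv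
      (AlgebraTensorModule.assoc A R R' R' M (X (i + 1))).toAddEquiv
      (AlgebraTensorModule.assoc A R R' R' M (X i)).toAddEquiv
      (f₁₂ := ((d (i + 1)).lTensor (R' ⊗[R] M)).toAddMonoidHom)
      (f₂₃ := ((d i).lTensor (R' ⊗[R] M)).toAddMonoidHom)
      (g₁₂ := ((AlgebraTensorModule.lTensor R M (d (i + 1))).lTensor R').toAddMonoidHom)
      (g₂₃ := ((AlgebraTensorModule.lTensor R M (d i)).lTensor R').toAddMonoidHom) ?_ ?_).2 h1
    · ext x
      exact key _ x
    · ext x
      exact key _ x
  exact h2

/-- Every module over `R` on which `f` acts by zero is good, and so is every localization `M_f`: then every module is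
good. -/
theorem Good.of_quotient_of_away (hd : ∀ i, d i ∘ₗ d (i + 1) = 0) [∀ i, Module.Flat A (X i)] (f : R)
    (h₁ : Good X d (R ⧸ Ideal.span {f})) (h₂ : Good X d (Localization.Away f)) : Good X d R := by
  -- modules killed by `f`
  have a1 : ∀ (M : Type u) [AddCommGroup M] [Module A M] [Module R M] [IsScalarTower A R M] (_ : ∀ m : M, f • m = 0)
      (i : ℕ), Function.Exact ((d (i + 1)).lTensor M) ((d i).lTensor M) := by
    intro M _ _ _ _ hM i
    have ht : Module.IsTorsionBySet R M (Ideal.span {f} : Ideal R) := by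
      rw [Module.isTorsionBySet_span_singleton_iff]
      exact fun m => hM m
    let _ : Module (R ⧸ Ideal.span {f}) M := ht.module
    have : IsScalarTower R (R ⧸ Ideal.span {f}) M := ht.isScalarTower
    have : IsScalarTower A (R ⧸ Ideal.span {f}) M := IsScalarTower.of_algebraMap_smul fun a m => by
      rw [IsScalarTower.algebraMap_apply A R, algebraMap_smul, algebraMap_smul]
    exact h₁ M i
  -- modules killed by `f ^ n`
  have a2 : ∀ (n : ℕ) (M : Type u) [AddCommGroup M] [Module A M] [Module R M] [IsScalarTower A R M]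
      (_ : ∀ m : M, f ^ n • m = 0) (i : ℕ), Function.Exact ((d (i + 1)).lTensor M) ((d i).lTensor M) := by
    intro n
    induction n with
    | zero =>
      intro M _ _ _ _ hM i
      exact a1 M (fun m => by rw [← one_smul R m, ← pow_zero f, hM, smul_zero]) i
    | succ n ih =>
      intro M _ _ _ _ hM i
      let N : Submodule R M := LinearMap.range (LinearMap.lsmul R M f)
      refine exact_ext (d (i + 1)) (d i) (N.subtype.restrictScalars A) (N.mkQ.restrictScalars A) (hd i)
        N.subtype_injective ?_ N.mkQ_surjective (ih N ?_ i) (a1 (M ⧸ N) ?_ i)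
      · exact LinearMap.exact_subtype_mkQ N
      · rintro ⟨_, m, rfl⟩
        apply Subtype.ext
        change f ^ n • f • m = 0
        rw [smul_smul, ← pow_succ, hM]
      · intro m
        obtain ⟨m, rfl⟩ := N.mkQ_surjective m
        rw [← map_smul]
        exact (Submodule.Quotient.mk_eq_zero N).2 ⟨m, rfl⟩
  -- `f`-power torsion modules
  have a3 : ∀ (M : Type u) [AddCommGroup M] [Module A M] [Module R M] [IsScalarTower A R M]
      (_ : ∀ m : M, ∃ n : ℕ, f ^ n • m = 0) (i : ℕ), Function.Exact ((d (i + 1)).lTensor M) ((d i).lTensor M) := by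
    intro M _ _ _ _ hM i
    refine exact_of_fg _ _ (hd i) fun N hN => ?_
    obtain ⟨t, ht⟩ := (Module.Finite.iff_fg.1 hN)
    choose n hn using hM
    let m := t.sup n
    let N' : Submodule R M := LinearMap.ker (LinearMap.lsmul R M (f ^ m))
    refine ⟨N'.restrictScalars A, ?_, a2 m N' ?_ i⟩
    · rw [← ht, Submodule.span_le]
      intro x hx
      change f ^ m • x = 0
      obtain ⟨k, hk⟩ := Nat.exists_eq_add_of_le (Finset.le_sup (f := n) hx)
      change m = _ at hk
      rw [hk, add_comm, pow_add, mul_smul, hn, smul_zero]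
    · rintro ⟨x, hx⟩
      exact Subtype.ext hx
  intro M _ _ _ _ i
  -- `0 → K → M → M' → 0` and `0 → M' → M_f → Q → 0`
  let L := LocalizedModule (Submonoid.powers f) M
  let φ : M →ₗ[R] L := LocalizedModule.mkLinearMap (Submonoid.powers f) M
  have tL : IsScalarTower A R L := inferInstance
  have tL' : IsScalarTower A (Localization.Away f) L := IsScalarTower.of_algebraMap_smul fun a m => by
    rw [IsScalarTower.algebraMap_apply A R, algebraMap_smul, algebraMap_smul]
  have e1 : ∀ i, Function.Exact ((d (i + 1)).lTensor (LinearMap.range φ)) ((d i).lTensor (LinearMap.range φ)) := by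
    intro i
    refine exact_sub (d (i + 2)) (d (i + 1)) (d i) ((LinearMap.range φ).subtype.restrictScalars A)
      ((LinearMap.range φ).mkQ.restrictScalars A) (hd (i + 1)) (hd i) (LinearMap.range φ).subtype_injective ?_
      (LinearMap.range φ).mkQ_surjective (a3 (L ⧸ LinearMap.range φ) ?_ (i + 1)) (h₂ L i)
    · exact LinearMap.exact_subtype_mkQ (LinearMap.range φ)
    · intro q
      obtain ⟨l, rfl⟩ := (LinearMap.range φ).mkQ_surjective q
      obtain ⟨⟨m, ⟨_, n, rfl⟩⟩, hm⟩ := IsLocalizedModule.surj (Submonoid.powers f) φ l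
      refine ⟨n, ?_⟩
      rw [← map_smul]
      exact (Submodule.Quotient.mk_eq_zero _).2 ⟨m, hm.symm⟩
  refine exact_ext (d (i + 1)) (d i) ((LinearMap.ker φ).subtype.restrictScalars A)
    (φ.rangeRestrict.restrictScalars A) (hd i) (LinearMap.ker φ).subtype_injective ?_ φ.surjective_rangeRestrict
    (a3 (LinearMap.ker φ) ?_ i) (e1 i)
  · intro x
    change φ.rangeRestrict x = 0 ↔ x ∈ Set.range (LinearMap.ker φ).subtype
    rw [← LinearMap.mem_ker, LinearMap.ker_rangeRestrict]
    simp
  · rintro ⟨x, hx⟩
    obtain ⟨⟨_, n, rfl⟩, hc⟩ := (IsLocalizedModule.eq_zero_iff (Submonoid.powers f) φ).1 hx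
    exact ⟨n, Subtype.ext hc⟩

end Good

/-- Surjectivity on spectra is stable under base change. -/
lemma surjective_comap_tensor {A B D : Type u} [CommRing A] [CommRing B] [CommRing D] [Algebra A B] [Algebra A D]
    (hs : Function.Surjective (PrimeSpectrum.comap (algebraMap A B))) :
    Function.Surjective (PrimeSpectrum.comap (algebraMap D (D ⊗[A] B))) := by
  intro q
  rw [← Set.mem_range, ← PrimeSpectrum.nontrivial_iff_mem_rangeComap]
  let p := PrimeSpectrum.comap (algebraMap A D) q
  let _ : Algebra p.asIdeal.ResidueField q.asIdeal.ResidueField :=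
    (Ideal.ResidueField.map p.asIdeal q.asIdeal (algebraMap A D) rfl).toAlgebra
  have ht : IsScalarTower A p.asIdeal.ResidueField q.asIdeal.ResidueField :=
    IsScalarTower.of_algebraMap_eq fun a => by
      change _ = Ideal.ResidueField.map p.asIdeal q.asIdeal (algebraMap A D) rfl _
      rw [Ideal.ResidueField.map_algebraMap]
      rfl
  have h1 : Nontrivial (p.asIdeal.ResidueField ⊗[A] B) := by
    rw [PrimeSpectrum.nontrivial_iff_mem_rangeComap]
    exact hs p
  have h2 : Nontrivial (q.asIdeal.ResidueField ⊗[p.asIdeal.ResidueField] (p.asIdeal.ResidueField ⊗[A] B)) :=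
    inferInstance
  have e1 : q.asIdeal.ResidueField ⊗[p.asIdeal.ResidueField] (p.asIdeal.ResidueField ⊗[A] B) ≃ₗ[q.asIdeal.ResidueField]
      q.asIdeal.ResidueField ⊗[A] B :=
    (AlgebraTensorModule.cancelBaseChange A p.asIdeal.ResidueField q.asIdeal.ResidueField _ _)
  have e2 : q.asIdeal.ResidueField ⊗[D] (D ⊗[A] B) ≃ₗ[q.asIdeal.ResidueField] q.asIdeal.ResidueField ⊗[A] B :=
    (AlgebraTensorModule.cancelBaseChange A D q.asIdeal.ResidueField _ _)
  exact (e1.trans e2.symm).injective.nontrivial

lemma aux {A₀ A : Type u} [CommRing A₀] [CommRing A] [Algebra A₀ A] (I : Ideal A₀) (R : Type u) [CommRing R]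
    [Algebra A R] (f : A₀) (hR : ∀ a ∈ I, algebraMap A R (algebraMap A₀ A a) = 0) :
    ∀ a ∈ I ⊔ Ideal.span {f},
      algebraMap A (R ⧸ Ideal.span {algebraMap A R (algebraMap A₀ A f)}) (algebraMap A₀ A a) = 0 := by
  have h1 : I ⊔ Ideal.span {f} ≤ RingHom.ker
      ((algebraMap A (R ⧸ Ideal.span {algebraMap A R (algebraMap A₀ A f)})).comp (algebraMap A₀ A)) := by
    refine sup_le (fun a ha => ?_) ?_
    · rw [RingHom.mem_ker, RingHom.comp_apply, IsScalarTower.algebraMap_apply A R
        (R ⧸ Ideal.span {algebraMap A R (algebraMap A₀ A f)}), hR a ha, map_zero]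
    · rw [Ideal.span_singleton_le_iff_mem, RingHom.mem_ker, RingHom.comp_apply, IsScalarTower.algebraMap_apply A R
        (R ⧸ Ideal.span {algebraMap A R (algebraMap A₀ A f)})]
      exact Ideal.Quotient.eq_zero_iff_mem.2 (Ideal.mem_span_singleton_self _)
  exact fun a ha => h1 ha

/-- **Stratification argument.** -/
theorem Good.of_surjective {A B : Type u} [CommRing A] [CommRing B] [Algebra A B] [Algebra.FinitePresentation A B]
    (hs : Function.Surjective (PrimeSpectrum.comap (algebraMap A B)))
    {X : ℕ → Type u} [∀ i, AddCommGroup (X i)] [∀ i, Module A (X i)]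
    {d : ∀ i, X (i + 1) →ₗ[A] X i} (hd : ∀ i, d i ∘ₗ d (i + 1) = 0) [∀ i, Module.Flat A (X i)]
    (h : Good X d B) : Good X d A := by
  obtain ⟨A₀, B₀, _, _, _, _, _, _, _, _, hpo, hN, hfp⟩ :=
    Groth.Agent.Flat2H.PairModel.exists_model₀ (A := A) (P := B)
  -- induction on ideals of `A₀`
  have main : ∀ (I : Ideal A₀) (R : Type u) [CommRing R] [Algebra A R] (_ : ∀ a ∈ I, algebraMap A R (algebraMap A₀ A a) = 0),
      Good X d R := by
    intro I
    induction (I : Ideal A₀) using IsNoetherian.induction with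
    | hgt I ih =>
    intro R _ _ hR
    by_cases htop : I = ⊤
    · intro M _ _ _ _ i
      have h1 : (1 : R) = 0 := by
        rw [← map_one (algebraMap A R), ← map_one (algebraMap A₀ A)]
        exact hR 1 (htop ▸ trivial)
      have : Subsingleton M := ⟨fun a b => by rw [← one_smul R a, ← one_smul R b, h1, zero_smul, zero_smul]⟩
      have : Subsingleton (M ⊗[A] X (i + 1)) := inferInstance
      intro x
      exact ⟨fun _ => ⟨0, Subsingleton.elim _ _⟩, fun _ => by rw [Subsingleton.elim x 0, map_zero]⟩
    by_cases hp : Ideal.IsPrime I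
    · let _ : Algebra B₀ ((A₀ ⧸ I) ⊗[A₀] B₀) := Algebra.TensorProduct.rightAlgebra
      obtain ⟨f', hf', hfree⟩ := Groth.Agent.Flat2C.FreeQuot.generic_free_baseChange (A' := A₀) (R := A₀ ⧸ I)
        (S' := B₀) (S₁ := (A₀ ⧸ I) ⊗[A₀] B₀) B₀
      obtain ⟨f, rfl⟩ := Ideal.Quotient.mk_surjective f'
      have hf : f ∉ I := fun h => hf' (Ideal.Quotient.eq_zero_iff_mem.2 h)
      refine Good.of_quotient_of_away hd (algebraMap A R (algebraMap A₀ A f)) ?_ ?_
      · refine ih (I ⊔ Ideal.span {f}) ?_ _ ?_
        · exact SetLike.lt_iff_le_and_exists.2 ⟨le_sup_left, f,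
            Ideal.mem_sup_right (Ideal.mem_span_singleton_self f), hf⟩
        · exact aux I R f hR
      · let D := Localization.Away (algebraMap A R (algebraMap A₀ A f))
        let _ : Algebra (A₀ ⧸ I) R := (Ideal.Quotient.lift I ((algebraMap A R).comp (algebraMap A₀ A)) hR).toAlgebra
        have tR : ∀ a : A₀, algebraMap (A₀ ⧸ I) R (Ideal.Quotient.mk I a) = algebraMap A R (algebraMap A₀ A a) :=
          fun a => rfl
        let _ : Algebra A₀ R := ((algebraMap A R).comp (algebraMap A₀ A)).toAlgebra
        have t0 : IsScalarTower A₀ A R := IsScalarTower.of_algebraMap_eq fun _ => rfl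
        have t0' : IsScalarTower A₀ (A₀ ⧸ I) R := IsScalarTower.of_algebraMap_eq fun _ => rfl
        have t1 : IsScalarTower A₀ A D := inferInstance
        have t2 : IsScalarTower A₀ (A₀ ⧸ I) D := inferInstance
        let ψ : Localization.Away (Ideal.Quotient.mk I f) →+* D :=
          IsLocalization.Away.lift (Ideal.Quotient.mk I f) (g := algebraMap (A₀ ⧸ I) D)
            (IsLocalization.Away.algebraMap_isUnit (S := D) (algebraMap A R (algebraMap A₀ A f)))
        let _ : Algebra (Localization.Away (Ideal.Quotient.mk I f)) D := ψ.toAlgebra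
        have t3 : IsScalarTower (A₀ ⧸ I) (Localization.Away (Ideal.Quotient.mk I f)) D :=
          IsScalarTower.of_algebraMap_eq fun a => (IsLocalization.Away.lift_eq _ _ a).symm
        have hflat : Module.Free D (D ⊗[A] B) :=
          Groth.Agent.Flat2C.FreeQuot.free_baseChange (A' := A₀) (R := A₀ ⧸ I)
            (Rf := Localization.Away (Ideal.Quotient.mk I f)) (M' := B₀) hfree (LinearEquiv.refl _ _)
            (IsScalarTower.toAlgHom A₀ B₀ B).toLinearMap hpo.out
        have hff : Module.FaithfullyFlat D (D ⊗[A] B) :=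
          Module.FaithfullyFlat.of_comap_surjective (surjective_comap_tensor hs)
        let _ : Algebra B (D ⊗[A] B) := Algebra.TensorProduct.rightAlgebra
        have hB : Good X d (D ⊗[A] B) := h.of_algebra
        exact hB.of_faithfullyFlat
    · rw [Ideal.isPrime_iff] at hp
      push Not at hp
      obtain ⟨f, g, hfg, hf, hg⟩ := hp htop
      refine Good.of_quotient_of_away hd (algebraMap A R (algebraMap A₀ A f)) ?_ ?_
      · refine ih (I ⊔ Ideal.span {f}) ?_ _ ?_
        · exact SetLike.lt_iff_le_and_exists.2 ⟨le_sup_left, f,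
            Ideal.mem_sup_right (Ideal.mem_span_singleton_self f), hf⟩
        · exact aux I R f hR
      · refine ih (I ⊔ Ideal.span {g}) ?_ _ ?_
        · exact SetLike.lt_iff_le_and_exists.2 ⟨le_sup_left, g,
            Ideal.mem_sup_right (Ideal.mem_span_singleton_self g), hg⟩
        · let D := Localization.Away (algebraMap A R (algebraMap A₀ A f))
          have h1 : I ⊔ Ideal.span {g} ≤ RingHom.ker ((algebraMap A D).comp (algebraMap A₀ A)) := by
            refine sup_le (fun a ha => ?_) ?_
            · rw [RingHom.mem_ker, RingHom.comp_apply, IsScalarTower.algebraMap_apply A R D, hR a ha, map_zero]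
            · rw [Ideal.span_singleton_le_iff_mem, RingHom.mem_ker, RingHom.comp_apply]
              have hu : IsUnit (algebraMap R D (algebraMap A R (algebraMap A₀ A f))) :=
                IsLocalization.Away.algebraMap_isUnit _
              have h2 : algebraMap R D (algebraMap A R (algebraMap A₀ A f)) * algebraMap A D (algebraMap A₀ A g) = 0 := by
                rw [IsScalarTower.algebraMap_apply A R D, ← map_mul, ← map_mul, ← map_mul, hR _ hfg, map_zero]
              exact (hu.mul_right_eq_zero).1 h2
          exact fun a ha => h1 ha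
  exact main ⊥ A (fun a ha => by rw [(Submodule.mem_bot A₀).1 ha, map_zero, map_zero])

end K562.LowAmp
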