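import Groth.Agent.FlatMor.K562.LowAmp
import Groth.Agent.DRing.K227.TorCrit
import Groth.Agent.DRing.K227.FlatBC

/-!
# Tor amplitude descends along surjective maps of finite presentation (one-sided form)

`torAmp_of_surjective`: let `A → B` be of finite presentation, surjective on spectra, `K ∈ D(A)` with `H^i(K) = 0` for
`i > b`.  If `K ⊗^L B` has tor amplitude in `[a, b]` then so does `K`.
-/

set_option autoImplicit false

universe u

open CategoryTheory CategoryTheory.Limits TensorProduct

attribute [local instance] HasDerivedCategory.standard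

namespace K562.LowAmpD

open K562.LowAmp K227 K227.TorCrit K227.PerfFlat DRing Groth.Agent.Flat2C.TorAmpCone
  Groth.Agent.LoccohB Groth.Agent.LoccohB.BCUnit

section

variable {A : Type u} [CommRing A]

/-- The part of a complex in degrees `≤ a`, in homological indexing. -/
abbrev XX (P : Cx A) (a : ℤ) (n : ℕ) : Type u := P.X (a - n)

/-- The differentials. -/
abbrev dd (P : Cx A) (a : ℤ) (n : ℕ) : XX P a (n + 1) →ₗ[A] XX P a n := (P.d (a - (n + 1 : ℕ)) (a - n)).hom

lemma dd_comp (P : Cx A) (a : ℤ) (n : ℕ) : dd P a n ∘ₗ dd P a (n + 1) = 0 := by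
  ext x
  exact d_d_apply P _ _ _ x

/-- `(B ⊗_A X) ⊗_B N ≃ N ⊗_A X`. -/
noncomputable def ee {B : Type u} [CommRing B] [Algebra A B] (X : Type u) [AddCommGroup X] [Module A X]
    (N : Type u) [AddCommGroup N] [Module B N] [Module A N] [IsScalarTower A B N] :
    (B ⊗[A] X) ⊗[B] N ≃+ N ⊗[A] X :=
  ((TensorProduct.comm B (B ⊗[A] X) N).toAddEquiv).trans (AlgebraTensorModule.cancelBaseChange A B B N X).toAddEquiv

lemma ee_tmul {B : Type u} [CommRing B] [Algebra A B] (X : Type u) [AddCommGroup X] [Module A X]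
    (N : Type u) [AddCommGroup N] [Module B N] [Module A N] [IsScalarTower A B N] (b : B) (x : X) (n : N) :
    ee X N ((b ⊗ₜ[A] x) ⊗ₜ[B] n) = (b • n) ⊗ₜ[A] x := by
  change AlgebraTensorModule.cancelBaseChange A B B N X (n ⊗ₜ[B] (b ⊗ₜ[A] x)) = _
  rw [AlgebraTensorModule.cancelBaseChange_tmul]

lemma ee_nat {B : Type u} [CommRing B] [Algebra A B] {X Y : Type u} [AddCommGroup X] [Module A X] [AddCommGroup Y]
    [Module A Y] (f : X →ₗ[A] Y) (N : Type u) [AddCommGroup N] [Module B N] [Module A N] [IsScalarTower A B N]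
    (t : (B ⊗[A] X) ⊗[B] N) :
    ee Y N ((f.baseChange B).rTensor N t) = f.lTensor N (ee X N t) := by
  induction t using TensorProduct.induction_on with
  | zero => simp only [map_zero]
  | add x y hx hy => simp only [map_add, hx, hy]
  | tmul bx n =>
    induction bx using TensorProduct.induction_on with
    | zero => simp only [TensorProduct.zero_tmul, map_zero]
    | add x y hx hy => simp only [TensorProduct.add_tmul, map_add, hx, hy]
    | tmul b x => rw [LinearMap.rTensor_tmul, LinearMap.baseChange_tmul, ee_tmul, ee_tmul, LinearMap.lTensor_tmul]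

lemma exact_iff {B : Type u} [CommRing B] [Algebra A B] {X Y Z : Type u} [AddCommGroup X] [Module A X] [AddCommGroup Y]
    [Module A Y] [AddCommGroup Z] [Module A Z] (f : X →ₗ[A] Y) (g : Y →ₗ[A] Z) (N : Type u) [AddCommGroup N]
    [Module B N] [Module A N] [IsScalarTower A B N] :
    Function.Exact (f.lTensor N) (g.lTensor N) ↔
      Function.Exact ((f.baseChange B).rTensor N) ((g.baseChange B).rTensor N) := by
  refine Function.Exact.iff_of_ladder_addEquiv (ee X N) (ee Y N) (ee Z N)
    (f₁₂ := ((f.baseChange B).rTensor N).toAddMonoidHom) (f₂₃ := ((g.baseChange B).rTensor N).toAddMonoidHom)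
    (g₁₂ := (f.lTensor N).toAddMonoidHom) (g₂₃ := (g.lTensor N).toAddMonoidHom) ?_ ?_
  · ext t
    exact (ee_nat f N t).symm
  · ext t
    exact (ee_nat g N t).symm

theorem exactAt_ext_iff (P : Cx A) {B : Type u} [CommRing B] (φ : A →+* B) (N : ModuleCat.{u} B) [Module A N]
    (hN : letI := φ.toAlgebra; IsScalarTower A B N) {i j k : ℤ} (hij : i + 1 = j) (hjk : j + 1 = k) :
    (tensorCx ((extCx φ).obj P) N).ExactAt j ↔
      Function.Exact ((P.d i j).hom.lTensor N) ((P.d j k).hom.lTensor N) := by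
  let _ := φ.toAlgebra
  have := hN
  rw [exactAt_tensorCx_iff _ N hij hjk, exact_iff (B := B)]
  rfl

theorem good_iff (P : Cx A) (a : ℤ) {B : Type u} [CommRing B] (φ : A →+* B) :
    (letI := φ.toAlgebra; Good (XX P a) (dd P a) B) ↔ ∀ (N : ModuleCat.{u} B) (i : ℤ), i < a →
      (tensorCx ((extCx φ).obj P) N).ExactAt i := by
  let _ := φ.toAlgebra
  constructor
  · intro h N i hi
    let _ : Module A N := Module.compHom N (algebraMap A B)
    have : IsScalarTower A B N := IsScalarTower.of_algebraMap_smul fun _ _ => rfl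
    obtain ⟨n, hn⟩ : ∃ n : ℕ, i = a - ((n + 1 : ℕ) : ℤ) := ⟨(a - 1 - i).toNat, by omega⟩
    subst hn
    rw [exactAt_ext_iff P φ N this (i := a - ((n + 1 + 1 : ℕ) : ℤ)) (k := a - (n : ℤ)) (by omega) (by omega)]
    exact h N n
  · intro h M _ _ _ tM n
    have h1 := h (ModuleCat.of B M) (a - ((n + 1 : ℕ) : ℤ)) (by omega)
    exact (exactAt_ext_iff P φ (ModuleCat.of B M) tM (i := a - ((n + 1 + 1 : ℕ) : ℤ)) (k := a - (n : ℤ))
        (by omega) (by omega)).1 h1

lemma exact_comm {X Y Z : Type u} [AddCommGroup X] [Module A X] [AddCommGroup Y]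
    [Module A Y] [AddCommGroup Z] [Module A Z] (f : X →ₗ[A] Y) (g : Y →ₗ[A] Z) (N : Type u) [AddCommGroup N]
    [Module A N] : Function.Exact (f.lTensor N) (g.lTensor N) ↔ Function.Exact (f.rTensor N) (g.rTensor N) := by
  refine Function.Exact.iff_of_ladder_linearEquiv (e₁ := TensorProduct.comm A X N) (e₂ := TensorProduct.comm A Y N)
    (e₃ := TensorProduct.comm A Z N) ?_ ?_
  · ext x n
    rfl
  · ext x n
    rfl

theorem good_self_iff (P : Cx A) (a : ℤ) :
    Good (XX P a) (dd P a) A ↔ ∀ (N : ModuleCat.{u} A) (i : ℤ), i < a → (tensorCx P N).ExactAt i := by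
  constructor
  · intro h N i hi
    obtain ⟨n, hn⟩ : ∃ n : ℕ, i = a - ((n + 1 : ℕ) : ℤ) := ⟨(a - 1 - i).toNat, by omega⟩
    subst hn
    rw [exactAt_tensorCx_iff P N (i := a - ((n + 1 + 1 : ℕ) : ℤ)) (k := a - (n : ℤ)) (by omega) (by omega),
      ← exact_comm]
    exact h N n
  · intro h M _ i1 i2 i3 n
    obtain rfl : i1 = i2 := Module.ext' _ _ fun a m => by
      have := i3.smul_assoc a 1 m
      rw [smul_eq_mul, mul_one] at this
      have h0 := @one_smul A M _ i2.toDistribMulAction.toMulAction m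
      rw [h0] at this
      exact this.symm
    have h1 := h (ModuleCat.of A M) (a - ((n + 1 : ℕ) : ℤ)) (by omega)
    rw [exactAt_tensorCx_iff P _ (i := a - ((n + 1 + 1 : ℕ) : ℤ)) (k := a - (n : ℤ)) (by omega) (by omega),
      ← exact_comm] at h1
    exact h1

/-- **One-sided descent of tor amplitude.** -/
theorem torAmp_of_surjective {B : Type u} [CommRing B] (φ : A →+* B) (hφ : φ.FinitePresentation)
    [HasLBaseChange φ] (hs : Function.Surjective (PrimeSpectrum.comap φ))
    (K : Dual.D A) (a b : ℤ) (hK : ∀ i, b < i → Subsingleton (Dual.HD A K i))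
    (h : HasTorAmplitudeIn B a b ((LBaseChange φ).obj K)) : HasTorAmplitudeIn A a b K := by
  obtain ⟨P, hP, hP', ⟨e⟩⟩ := exists_projective_rep K b hK
  have hPf : TermwiseFlat P := fun i => Groth.Agent.Flat2C.TorAmpRestr.flat_of_projective (hP' i)
  obtain ⟨e'⟩ := LbcFlat.nonempty_lbc_iso φ P b hP hPf
  have h1 := torAmp_of_iso ((LBaseChange φ).mapIso e.symm ≪≫ e') h
  have hQ : VanishesAbove ((extCx φ).obj P) b := fun i hi =>
    (ModuleCat.extendScalars.{u, u, u} φ).map_isZero (hP i hi)
  have hQ' : TermwiseFlat ((extCx φ).obj P) := fun i => FlatBC.flat_ext _ _ (hPf i)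
  rw [torAmp_iff_tensorCx _ b hQ hQ' a b] at h1
  let _ := φ.toAlgebra
  have h2 : Good (XX P a) (dd P a) B := (good_iff P a φ).2 fun N i hi => h1 N i (Or.inl hi)
  have : Algebra.FinitePresentation A B := hφ
  have h3 : Good (XX P a) (dd P a) A := by
    have : ∀ i, Module.Flat A (XX P a i) := fun i => hPf _
    exact Good.of_surjective hs (dd_comp P a) h2
  rw [good_self_iff] at h3
  refine torAmp_of_iso e ((torAmp_iff_tensorCx P b hP hPf a b).2 fun M i hi => ?_)
  rcases hi with hi | hi
  · exact h3 M i hi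
  · exact HomologicalComplex.ExactAt.of_isZero ((MonoidalCategory.tensorRight M).map_isZero (hP i hi))

end

end K562.LowAmpD
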